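import Groth.Prelude.Def_W4bk4git07Quot
import Groth.Agent.H13Desc.Flat
import Mathlib

/-!
# Maps of principal bundles are cartesian
-/

set_option autoImplicit false
set_option linter.style.haveILetI false
set_option backward.isDefEq.respectTransparency false
universe u

open CategoryTheory CategoryTheory.Limits MonoidalCategory CartesianMonoidalCategory AlgebraicGeometry

namespace Groth.Agent.H02CA.Bundle

variable {k : Type u} [Field k]

/-- A morphism between schemes of finite type over a field is locally of finite presentation. -/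
theorem lfp_left {P Q : Over (Spec (CommRingCat.of k))} (f : P ⟶ Q) [LocallyOfFiniteType P.hom]
    [LocallyOfFiniteType Q.hom] : LocallyOfFinitePresentation f.left := by
  haveI : LocallyOfFiniteType (f.left ≫ Q.hom) := by
    rw [Over.w f]
    infer_instance
  haveI : LocallyOfFiniteType f.left := locallyOfFiniteType_of_comp f.left Q.hom
  haveI : IsLocallyNoetherian Q.left := LocallyOfFiniteType.isLocallyNoetherian Q.hom
  exact LocallyOfFinitePresentation.iff_locallyOfFiniteType.2 inferInstance

/-- The morphism property along which we descend. -/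
theorem fppf_mem {P Q : Over (Spec (CommRingCat.of k))} (f : P ⟶ Q) [LocallyOfFiniteType P.hom]
    [LocallyOfFiniteType Q.hom] (hs : Function.Surjective f.left.base) (hf : Flat f.left) :
    (@Surjective ⊓ @Flat ⊓ @LocallyOfFinitePresentation : MorphismProperty Scheme.{u}) f.left :=
  ⟨⟨⟨hs⟩, hf⟩, lfp_left f⟩

variable {S : Scheme.{u}}

theorem isPullback_tensor (X Y : Over S) : IsPullback (fst X Y).left (snd X Y).left X.hom Y.hom :=
  IsPullback.of_hasPullback X.hom Y.hom

/-- Projections from products are base changes. -/
theorem isPullback_whiskerLeft (H : Over S) {P' P : Over S} (f : P' ⟶ P) :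
    IsPullback (H ◁ f).left (snd H P').left (snd H P).left f.left := by
  refine IsPullback.of_right ?_ ?_ (isPullback_tensor H P)
  · have h1 : (H ◁ f).left ≫ (fst H P).left = (fst H P').left := by
      rw [← Over.comp_left, whiskerLeft_fst]
    rw [h1, Over.w f]
    exact isPullback_tensor H P'
  · rw [← Over.comp_left, ← Over.comp_left, whiskerLeft_snd]

/-- A fibre-pair isomorphism exhibits the group times the source as the fibre square. -/
theorem isPullback_of_isIso_psiY {H P Q : Over S} [GrpObj H] (a : AlgGrp.Action H P) (q : P ⟶ Q)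
    (hinv : GIT.IsInvariant a q) (h : IsIso (GIT.PsiY a q hinv)) :
    IsPullback a.act.left (snd H P).left q.left q.left :=
  IsPullback.of_iso_pullback ⟨hinv.left⟩ (asIso (GIT.PsiY a q hinv)) (pullback.lift_fst _ _ _)
    (pullback.lift_snd _ _ _)

/-- An equivariant map of principal bundles is cartesian over the map of quotients. -/
theorem isPullback_of_equivariant {H P Q P' Q' : Over S} [GrpObj H] (a : AlgGrp.Action H P) (q : P ⟶ Q)
    (hinv : GIT.IsInvariant a q) (h : IsIso (GIT.PsiY a q hinv)) (a' : AlgGrp.Action H P') (q' : P' ⟶ Q')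
    (hinv' : GIT.IsInvariant a' q') (h' : IsIso (GIT.PsiY a' q' hinv'))
    (hq' : (@Surjective ⊓ @Flat ⊓ @LocallyOfFinitePresentation : MorphismProperty Scheme.{u}) q'.left)
    (f : P' ⟶ P) (m : Q' ⟶ Q) (hf : a'.act ≫ f = (H ◁ f) ≫ a.act) (hm : f ≫ q = q' ≫ m) :
    IsPullback f.left q'.left q.left m.left := by
  have hm' : f.left ≫ q.left = q'.left ≫ m.left := congrArg CommaMorphism.left hm
  let K := pullback q.left m.left
  let γ : P'.left ⟶ K := pullback.lift f.left q'.left hm'
  have hK : IsPullback (pullback.fst q.left m.left) (pullback.snd q.left m.left) q.left m.left :=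
    IsPullback.of_hasPullback _ _
  have hbig : IsPullback ((H ◁ f).left ≫ a.act.left) (snd H P').left q.left (f.left ≫ q.left) :=
    (isPullback_whiskerLeft H f).paste_horiz (isPullback_of_isIso_psiY a q hinv h)
  rw [hm', ← Over.comp_left, ← hf, Over.comp_left] at hbig
  have hγ1 : γ ≫ pullback.fst q.left m.left = f.left := pullback.lift_fst _ _ _
  have hγ2 : γ ≫ pullback.snd q.left m.left = q'.left := pullback.lift_snd _ _ _
  have hl : IsPullback (a'.act.left ≫ γ) (snd H P').left (pullback.snd q.left m.left) q'.left := by
    refine IsPullback.of_right ?_ ?_ hK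
    · rw [Category.assoc, hγ1]
      exact hbig
    · rw [Category.assoc, hγ2]
      exact hinv'.left
  have htop : IsPullback a'.act.left (𝟙 (H ⊗ P').left) γ (a'.act.left ≫ γ) := by
    refine IsPullback.of_bot ?_ (by rw [Category.id_comp]) hl
    rw [hγ2, Category.id_comp]
    exact isPullback_of_isIso_psiY a' q' hinv' h'
  have hp : (@Surjective ⊓ @Flat ⊓ @LocallyOfFinitePresentation : MorphismProperty Scheme.{u}) (a'.act.left ≫ γ) :=
    ⟨⟨MorphismProperty.of_isPullback hl.flip hq'.1.1, MorphismProperty.of_isPullback hl.flip hq'.1.2⟩,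
      MorphismProperty.of_isPullback hl.flip hq'.2⟩
  have hiso : MorphismProperty.isomorphisms Scheme.{u} γ :=
    MorphismProperty.of_isPullback_of_descendsAlong (P := MorphismProperty.isomorphisms Scheme.{u})
      (Q := @Surjective ⊓ @Flat ⊓ @LocallyOfFinitePresentation) htop.flip hp (inferInstanceAs (IsIso (𝟙 _)))
  haveI : IsIso γ := hiso
  exact hK.of_iso (asIso γ).symm (Iso.refl _) (Iso.refl _) (Iso.refl _)
    (by simp [← hγ1]) (by simp [← hγ2]) (by simp) (by simp)

/-- Equivariance from the universal point. -/
theorem equivariant_of_points {H P P' : Over S} [GrpObj H] (a : AlgGrp.Action H P) (a' : AlgGrp.Action H P')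
    (f : P' ⟶ P) (h : ∀ (T : Over S) (g : T ⟶ H) (p : T ⟶ P'), lift g p ≫ a'.act ≫ f = lift g (p ≫ f) ≫ a.act) :
    a'.act ≫ f = (H ◁ f) ≫ a.act := by
  have := h (H ⊗ P') (fst H P') (snd H P')
  rw [lift_fst_snd, Category.id_comp] at this
  rw [this]
  congr 1

/-- A product of schemes locally of finite type is locally of finite type. -/
theorem lft_tensor (X Y : Over S) [LocallyOfFiniteType X.hom] [LocallyOfFiniteType Y.hom] :
    LocallyOfFiniteType (X ⊗ Y).hom := by
  rw [← Over.w (fst X Y)]
  haveI : LocallyOfFiniteType (fst X Y).left :=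
    MorphismProperty.of_isPullback (isPullback_tensor X Y).flip inferInstance
  infer_instance

/-- A product over a base is the fibre product over a factor. -/
theorem isPullback_whiskerLeft_fst_snd (G X Y : Over S) :
    IsPullback (G ◁ fst X Y).left (G ◁ snd X Y).left (fst G X).left (fst G Y).left := by
  have h := (isPullback_whiskerLeft G (fst X Y)).paste_vert (isPullback_tensor X Y)
  rw [← Over.comp_left, ← whiskerLeft_snd, Over.comp_left, Over.w (snd G X), ← Over.w (fst G X)] at h
  refine IsPullback.of_bot h ?_ (isPullback_tensor G Y)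
  rw [← Over.comp_left, ← Over.comp_left, whiskerLeft_fst, whiskerLeft_fst]

end Groth.Agent.H02CA.Bundle
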