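import Groth.Agent.H02CA.Bundle.Descent

/-!
# Locally isotrivial bundles are principal
-/

set_option autoImplicit false
set_option linter.style.haveILetI false
set_option backward.isDefEq.respectTransparency false
universe u

open CategoryTheory CategoryTheory.Limits MonoidalCategory CartesianMonoidalCategory AlgebraicGeometry
open scoped MonObj

namespace Groth.Agent.H02CA.Bundle

variable {S : Scheme.{u}} {G P X : Over S} [GrpObj G]

theorem lift_lift_act (a : AlgGrp.Action G P) {T : Over S} (g h : T ⟶ G) (p : T ⟶ P) :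
    lift g (lift h p ≫ a.act) ≫ a.act = lift (g * h) p ≫ a.act := by
  have h1 := congrArg (fun f => lift (lift g h) p ≫ f) a.mul_act
  simp only [lift_whiskerRight_assoc, lift_lift_associator_hom_assoc, lift_whiskerLeft_assoc] at h1
  rw [← h1]
  rfl

/-- The shear square. -/
theorem isPullback_shear (U : Over S) :
    IsPullback (lift (snd G (U ⊗ G) ≫ fst U G) (fst G (U ⊗ G) * (snd G (U ⊗ G) ≫ snd U G)))
      (snd G (U ⊗ G)) (fst U G) (fst U G) := by
  refine IsPullback.of_isLimit' ⟨by rw [lift_fst]⟩ (PullbackCone.IsLimit.mk _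
    (fun c => lift ((c.fst ≫ snd U G) * (c.snd ≫ snd U G)⁻¹) c.snd) (fun c => ?_) (fun c => lift_snd _ _)
    (fun c m h1 h2 => ?_))
  · refine CartesianMonoidalCategory.hom_ext _ _ ?_ ?_
    · rw [Category.assoc, lift_fst, lift_snd_assoc]
      exact c.condition.symm
    · rw [Category.assoc, lift_snd, MonObj.comp_mul, lift_fst, lift_snd_assoc, _root_.inv_mul_cancel_right]
  · refine CartesianMonoidalCategory.hom_ext _ _ ?_ (by rw [h2, lift_snd])
    have h3 : (m ≫ fst G (U ⊗ G)) * (c.snd ≫ snd U G) = c.fst ≫ snd U G := by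
      rw [← h1, Category.assoc, lift_snd, MonObj.comp_mul, reassoc_of% h2]
    rw [lift_fst, ← h3, _root_.mul_inv_cancel_right]

/-- The trivialization map of an isotrivial bundle. -/
noncomputable def trivMap (a : AlgGrp.Action G P) {U : Over S} (s : U ⟶ P) : U ⊗ G ⟶ P :=
  lift (snd U G) (fst U G ≫ s) ≫ a.act

theorem shear_trivMap (a : AlgGrp.Action G P) {U : Over S} (s : U ⟶ P) :
    lift (snd G (U ⊗ G) ≫ fst U G) (fst G (U ⊗ G) * (snd G (U ⊗ G) ≫ snd U G)) ≫ trivMap a s =
      (G ◁ trivMap a s) ≫ a.act := by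
  have hw : G ◁ trivMap a s = lift (fst G (U ⊗ G))
      (lift (snd G (U ⊗ G) ≫ snd U G) (snd G (U ⊗ G) ≫ fst U G ≫ s) ≫ a.act) := by
    ext <;> simp [trivMap, comp_lift_assoc]
  rw [hw, lift_lift_act, trivMap, comp_lift_assoc, lift_snd, lift_fst_assoc, Category.assoc]

section

variable (a : AlgGrp.Action G P) (π : P ⟶ X) {U : Over S} (s : U ⟶ P) (j : U.left ⟶ X.left)
  (hE : IsPullback (fst U G).left (trivMap a s).left j π.left)

include hE in
/-- The trivialization is the base change of the covering map. -/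
theorem trivMap_mem {W : MorphismProperty Scheme.{u}} [W.IsStableUnderBaseChange] (hj : W j) :
    W (trivMap a s).left :=
  MorphismProperty.of_isPullback hE hj

include hE in
theorem mem_range_trivMap (p : ↥P.left) (hp : π.left p ∈ Set.range j) :
    p ∈ Set.range (trivMap a s).left := by
  obtain ⟨x, hx⟩ := hp
  obtain ⟨z, -, hz⟩ := Scheme.exists_preimage_of_isPullback hE x p hx
  exact ⟨z, hz⟩

include hE in
/-- The quotient map is flat at the points over the image of the covering map. -/
theorem flat_stalkMap [Flat G.hom] [Flat j] (p : ↥P.left) (hp : π.left p ∈ Set.range j) :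
    (π.left.stalkMap p).hom.Flat := by
  obtain ⟨w, rfl⟩ := mem_range_trivMap a π s j hE p hp
  haveI : Flat (fst U G).left := MorphismProperty.of_isPullback (isPullback_tensor U G).flip inferInstance
  haveI : Flat (trivMap a s).left := trivMap_mem a π s j hE inferInstance
  haveI : Flat ((trivMap a s).left ≫ π.left) := by
    rw [← hE.w]
    infer_instance
  have h₁ := Flat.stalkMap ((trivMap a s).left ≫ π.left) w
  have h₂ := H13Desc.faithfullyFlat_stalkMap (trivMap a s).left w
  rw [Scheme.Hom.stalkMap_comp] at h₁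
  exact H13Desc.ringHom_flat_of_refinement _ _ (RingHom.id _) h₁ (by rw [RingHom.id_comp]; exact h₂)

include hE in
/-- The fibre-pair map is an isomorphism over the image of the covering map. -/
theorem isIso_psiY_restrict [Flat j] [LocallyOfFinitePresentation j] (hinv : GIT.IsInvariant a π)
    (V : X.left.Opens) (hV : Set.range j = (V : Set ↥X.left)) :
    IsIso (GIT.PsiY a π hinv ∣_ (pullback.snd π.left π.left ⁻¹ᵁ (π.left ⁻¹ᵁ V))) := by
  let t := trivMap a s
  let c : (G ⊗ (U ⊗ G)).left ⟶ pullback π.left π.left := (G ◁ t).left ≫ GIT.PsiY a π hinv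
  have hΨ1 : GIT.PsiY a π hinv ≫ pullback.fst π.left π.left = a.act.left := pullback.lift_fst _ _ _
  have hΨ2 : GIT.PsiY a π hinv ≫ pullback.snd π.left π.left = (snd G P).left := pullback.lift_snd _ _ _
  have hsh := ((isPullback_shear (G := G) U).map (Over.forget S)).paste_horiz hE.flip
  simp only [Over.forget_map] at hsh
  rw [← Over.comp_left, shear_trivMap, hE.w] at hsh
  have hc : IsPullback c (snd G (U ⊗ G)).left (pullback.snd π.left π.left) t.left := by
    refine IsPullback.of_right ?_ ?_ (IsPullback.of_hasPullback π.left π.left)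
    · rw [Category.assoc, hΨ1, ← Over.comp_left]
      exact hsh
    · rw [Category.assoc, hΨ2, ← Over.comp_left, ← Over.comp_left, whiskerLeft_snd]
  have htop : IsPullback (G ◁ t).left (𝟙 _) (GIT.PsiY a π hinv) c := by
    refine IsPullback.of_bot ?_ (by rw [Category.id_comp]) hc
    rw [Category.id_comp, hΨ2]
    exact isPullback_whiskerLeft G t
  set W := pullback.snd π.left π.left ⁻¹ᵁ (π.left ⁻¹ᵁ V)
  have hrange : Set.range c ⊆ (W : Set ↥(pullback π.left π.left)) := by
    rintro _ ⟨z, rfl⟩
    change π.left (pullback.snd π.left π.left (c z)) ∈ (V : Set ↥X.left)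
    rw [← Scheme.Hom.comp_apply c, hc.w, Scheme.Hom.comp_apply, ← Scheme.Hom.comp_apply t.left, ← hE.w,
      Scheme.Hom.comp_apply, ← hV]
    exact ⟨_, rfl⟩
  let c' : (G ⊗ (U ⊗ G)).left ⟶ W.toScheme := IsOpenImmersion.lift W.ι c (by rw [Scheme.Opens.range_ι]; exact hrange)
  have hc' : c' ≫ W.ι = c := IsOpenImmersion.lift_fac _ _ _
  have hcc : IsPullback (𝟙 _) c' c W.ι := IsPullback.of_horiz_isIso_mono ⟨by rw [Category.id_comp, hc']⟩
  have hp : (@Surjective ⊓ @Flat ⊓ @LocallyOfFinitePresentation : MorphismProperty Scheme.{u}) c' := by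
    refine ⟨⟨⟨fun w => ?_⟩, ?_⟩, ?_⟩
    · obtain ⟨y, hy⟩ := mem_range_trivMap a π s j hE (pullback.snd π.left π.left w.1) (hV ▸ w.2)
      obtain ⟨z, hz, -⟩ := Scheme.exists_preimage_of_isPullback hc w.1 y hy.symm
      refine ⟨z, W.ι.injective ?_⟩
      rw [← Scheme.Hom.comp_apply, hc']
      exact hz
    · exact MorphismProperty.of_isPullback hcc
        (MorphismProperty.of_isPullback hc.flip (trivMap_mem (W := @Flat) a π s j hE inferInstance))
    · exact MorphismProperty.of_isPullback hcc
        (MorphismProperty.of_isPullback hc.flip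
          (trivMap_mem (W := @LocallyOfFinitePresentation) a π s j hE inferInstance))
  have hr := (isPullback_morphismRestrict (GIT.PsiY a π hinv) W).flip
  let d : (G ⊗ (U ⊗ G)).left ⟶ (GIT.PsiY a π hinv ⁻¹ᵁ W).toScheme :=
    IsOpenImmersion.lift (GIT.PsiY a π hinv ⁻¹ᵁ W).ι (G ◁ t).left (by
      rw [Scheme.Opens.range_ι]
      rintro _ ⟨z, rfl⟩
      exact hrange ⟨z, Scheme.Hom.comp_apply _ _ _⟩)
  have hd : d ≫ (GIT.PsiY a π hinv ⁻¹ᵁ W).ι = (G ◁ t).left := IsOpenImmersion.lift_fac _ _ _
  have hres : IsPullback d (𝟙 _) (GIT.PsiY a π hinv ∣_ W) c' := by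
    refine IsPullback.of_right ?_ ?_ hr
    · rw [hd, hc']
      exact htop
    · rw [Category.id_comp, ← cancel_mono W.ι, Category.assoc, morphismRestrict_ι, reassoc_of% hd, hc']
  exact MorphismProperty.of_isPullback_of_descendsAlong (P := MorphismProperty.isomorphisms Scheme.{u})
    (Q := @Surjective ⊓ @Flat ⊓ @LocallyOfFinitePresentation) hres.flip hp (inferInstanceAs (IsIso (𝟙 _)))

end

end Groth.Agent.H02CA.Bundle
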